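import Mathlib
import Cfsg.Agent.Lib.Helper14.PG63.Defs

/-!
# Project PG63 (S3664): package [PI]

`Pred` is closed under inverses (given that it is closed under products): the inverse of `M`
is `J4 * Mᵀ * J4`, and `Mᵀ`, `J4` satisfy `Pred`.
-/

set_option autoImplicit false

namespace Cfsg.Agent.Lib.Helper59.PG63

open Matrix Cfsg.Agent.Lib.Helper14.PG63

universe u

theorem J4_mul_J4 {F : Type u} [Field F] : J4 F * J4 F = 1 := by
  ext i j
  fin_cases i <;> fin_cases j <;> simp [J4, Matrix.mul_apply, Fin.sum_univ_four]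

theorem J4_transpose {F : Type u} [Field F] : (J4 F)ᵀ = J4 F := by
  ext i j
  fin_cases i <;> fin_cases j <;> simp [J4]

theorem star4_transpose {F : Type u} [Field F] (M : Matrix (Fin 4) (Fin 4) F) :
    Cfsg.Lie.star4 Mᵀ = (Cfsg.Lie.star4 M)ᵀ := by
  ext p r
  simp only [Cfsg.Lie.star4, Matrix.of_apply, Matrix.transpose_apply]
  ring

theorem pairOf_zero : Cfsg.Lie.pairOf 0 = (0, 1) := rfl
theorem pairOf_one : Cfsg.Lie.pairOf 1 = (0, 2) := rfl
theorem pairOf_two : Cfsg.Lie.pairOf 2 = (1, 3) := rfl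
theorem pairOf_three : Cfsg.Lie.pairOf 3 = (2, 3) := rfl

theorem pred_J4 {F : Type u} [Field F] [CharP F 2] : Pred (J4 F) := by
  constructor
  · rw [J4_transpose, J4_mul_J4, Matrix.one_mul]
  · have h2 : (-1 : F) = 1 := CharTwo.neg_eq 1
    ext p r
    fin_cases p <;> fin_cases r <;>
      simp [Cfsg.Lie.star4, pairOf_zero, pairOf_one, pairOf_two, pairOf_three, J4, h2]

theorem pred_one {F : Type u} [Field F] : Pred (1 : Matrix (Fin 4) (Fin 4) F) := by
  constructor
  · rw [Matrix.transpose_one, Matrix.one_mul, Matrix.mul_one]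
  · ext p r
    fin_cases p <;> fin_cases r <;>
      simp (config := {decide := true}) [Cfsg.Lie.star4, Matrix.one_apply, Cfsg.Lie.pairOf]

theorem pred_transpose {F : Type u} [Field F] (M : Matrix (Fin 4) (Fin 4) F) (h : Pred M) :
    Pred Mᵀ := by
  obtain ⟨h1, h2⟩ := h
  constructor
  · rw [Matrix.transpose_transpose]
    have e1 : (J4 F * Mᵀ * J4 F) * M = 1 := by
      rw [Matrix.mul_assoc, Matrix.mul_assoc, ← Matrix.mul_assoc Mᵀ, h1, J4_mul_J4]
    have e2 : M * (J4 F * Mᵀ * J4 F) = 1 := mul_eq_one_comm.mp e1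
    calc M * J4 F * Mᵀ = M * J4 F * Mᵀ * (J4 F * J4 F) := by rw [J4_mul_J4, Matrix.mul_one]
      _ = (M * (J4 F * Mᵀ * J4 F)) * J4 F := by simp only [Matrix.mul_assoc]
      _ = J4 F := by rw [e2, Matrix.one_mul]
  · rw [star4_transpose, h2, Matrix.transpose_map]

theorem pkgPI : PkgPI.{u} := by
  intro hPM F _ _ M M' hM hMM'
  have hJ : Pred (J4 F) := pred_J4
  have hT : Pred Mᵀ := pred_transpose M hM
  have h1 : Pred (J4 F * Mᵀ * J4 F) := hPM _ _ (hPM _ _ hJ hT) hJ
  have e1 : (J4 F * Mᵀ * J4 F) * M = 1 := by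
    rw [Matrix.mul_assoc, Matrix.mul_assoc, ← Matrix.mul_assoc Mᵀ, hM.1, J4_mul_J4]
  have e3 : M' = J4 F * Mᵀ * J4 F := by
    calc M' = (J4 F * Mᵀ * J4 F * M) * M' := by rw [e1, Matrix.one_mul]
      _ = J4 F * Mᵀ * J4 F * (M * M') := by rw [Matrix.mul_assoc]
      _ = J4 F * Mᵀ * J4 F := by rw [hMM', Matrix.mul_one]
  rw [e3]
  exact h1

end Cfsg.Agent.Lib.Helper59.PG63
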