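import Mathlib
import Cfsg.Agent.Lib.Helper14.PG63.Defs
import Cfsg.Agent.Lib.Helper59.PG63.PI

/-!
# Project PG63 (S3664): package [PM]

`Pred` is closed under products: `star4` is multiplicative on form-preserving matrices in
characteristic 2 (Cauchy-Binet for the `2 × 2` minors; the two missing index pairs `03`, `12`
cancel because of the form relations).
-/

set_option autoImplicit false

namespace Cfsg.Agent.Lib.Helper59.PG63

open Matrix Cfsg.Agent.Lib.Helper14.PG63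

universe u

theorem J4_pairOf {F : Type u} [Field F] (p : Fin 4) :
    J4 F (Cfsg.Lie.pairOf p).1 (Cfsg.Lie.pairOf p).2 = 0 := by
  fin_cases p <;> simp (config := {decide := true}) [J4, Cfsg.Lie.pairOf]

theorem form_row {F : Type u} [Field F] (M : Matrix (Fin 4) (Fin 4) F) (k l : Fin 4) :
    (M * J4 F * Mᵀ) k l = M k 0 * M l 3 + M k 1 * M l 2 + M k 2 * M l 1 + M k 3 * M l 0 := by
  simp [Matrix.mul_apply, Fin.sum_univ_four, J4] <;> ring

theorem form_col {F : Type u} [Field F] (M : Matrix (Fin 4) (Fin 4) F) (i j : Fin 4) :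
    (Mᵀ * J4 F * M) i j = M 0 i * M 3 j + M 1 i * M 2 j + M 2 i * M 1 j + M 3 i * M 0 j := by
  simp [Matrix.mul_apply, Fin.sum_univ_four, J4] <;> ring

/-- Cauchy-Binet for `2 × 2` minors, with the pairs `03`, `12` cancelling. -/
theorem cb_minor {F : Type u} [Field F] [CharP F 2] (M M' : Matrix (Fin 4) (Fin 4) F)
    (h : M * J4 F * Mᵀ = J4 F) (h' : M'ᵀ * J4 F * M' = J4 F) (k l i j : Fin 4)
    (hkl : J4 F k l = 0) (hij : J4 F i j = 0) :
    (M * M') k i * (M * M') l j - (M * M') l i * (M * M') k j =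
      (M k 0 * M l 1 - M l 0 * M k 1) * (M' 0 i * M' 1 j - M' 1 i * M' 0 j) +
      (M k 0 * M l 2 - M l 0 * M k 2) * (M' 0 i * M' 2 j - M' 2 i * M' 0 j) +
      (M k 1 * M l 3 - M l 1 * M k 3) * (M' 1 i * M' 3 j - M' 3 i * M' 1 j) +
      (M k 2 * M l 3 - M l 2 * M k 3) * (M' 2 i * M' 3 j - M' 3 i * M' 2 j) := by
  have h2 : (2 : F) = 0 := CharTwo.two_eq_zero
  have hE1 : M k 0 * M l 3 + M k 1 * M l 2 + M k 2 * M l 1 + M k 3 * M l 0 = 0 := by
    rw [← form_row, h, hkl]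
  have hE2 : M' 0 i * M' 3 j + M' 1 i * M' 2 j + M' 2 i * M' 1 j + M' 3 i * M' 0 j = 0 := by
    rw [← form_col, h', hij]
  simp only [Matrix.mul_apply, Fin.sum_univ_four]
  linear_combination (M' 0 i * M' 3 j - M' 3 i * M' 0 j) * hE1 -
    (M k 1 * M l 2 - M l 1 * M k 2) * hE2 +
    (-(M l 0 * M k 3 + M l 1 * M k 2) * (M' 0 i * M' 3 j - M' 3 i * M' 0 j) +
      (M k 1 * M l 2 - M l 1 * M k 2) * (M' 1 i * M' 2 j - M' 2 i * M' 1 j) +
      (M k 1 * M l 2 - M l 1 * M k 2) * (M' 3 i * M' 0 j + M' 2 i * M' 1 j)) * h2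

theorem star4_mul {F : Type u} [Field F] [CharP F 2] (M M' : Matrix (Fin 4) (Fin 4) F)
    (h : M * J4 F * Mᵀ = J4 F) (h' : M'ᵀ * J4 F * M' = J4 F) :
    Cfsg.Lie.star4 (M * M') = Cfsg.Lie.star4 M * Cfsg.Lie.star4 M' := by
  ext p r
  rw [Matrix.mul_apply, Fin.sum_univ_four]
  exact cb_minor M M' h h' (Cfsg.Lie.pairOf p).1 (Cfsg.Lie.pairOf p).2 (Cfsg.Lie.pairOf r).1
    (Cfsg.Lie.pairOf r).2 (J4_pairOf p) (J4_pairOf r)

theorem map_pow_four_mul {F : Type u} [Field F] [CharP F 2] (M M' : Matrix (Fin 4) (Fin 4) F) :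
    (M * M').map (fun x => x ^ 4) = M.map (fun x => x ^ 4) * M'.map (fun x => x ^ 4) := by
  have e : (fun x : F => x ^ 4) = ⇑((frobenius F 2).comp (frobenius F 2)) := by
    funext x
    simp only [RingHom.comp_apply, frobenius_def]
    ring
  rw [e, Matrix.map_mul]

theorem pkgPM : PkgPM.{u} := by
  intro F _ _ M M' hM hM'
  have hT := (pred_transpose M hM).1
  rw [Matrix.transpose_transpose] at hT
  constructor
  · rw [Matrix.transpose_mul]
    calc M'ᵀ * Mᵀ * J4 F * (M * M') = M'ᵀ * (Mᵀ * J4 F * M) * M' := by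
          simp only [Matrix.mul_assoc]
      _ = J4 F := by rw [hM.1, hM'.1]
  · rw [star4_mul M M' hT hM'.1, hM.2, hM'.2, map_pow_four_mul]

end Cfsg.Agent.Lib.Helper59.PG63
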