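import Mathlib
import Cfsg.Agent.Lib.Helper14.PG63.Defs

/-!
# Project PG63 (S3664): package [PMAP]

`Pred` is preserved by entrywise ring homomorphisms.
-/

set_option autoImplicit false

namespace Cfsg.Agent.Lib.Helper59.PG63

open Matrix Cfsg.Agent.Lib.Helper14.PG63

universe u

theorem J4_map {F : Type u} [Field F] (τ : F →+* F) : (J4 F).map τ = J4 F := by
  ext i j
  fin_cases i <;> fin_cases j <;> simp [J4]

theorem star4_map {F : Type u} [Field F] (τ : F →+* F) (M : Matrix (Fin 4) (Fin 4) F) :
    Cfsg.Lie.star4 (M.map τ) = (Cfsg.Lie.star4 M).map τ := by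
  ext p r
  simp [Cfsg.Lie.star4]

theorem pkgPMap : PkgPMap.{u} := by
  intro F _ τ M hM
  obtain ⟨h1, h2⟩ := hM
  constructor
  · have h := congrArg (fun X : Matrix (Fin 4) (Fin 4) F => X.map τ) h1
    simp only [Matrix.map_mul, J4_map] at h
    rw [← Matrix.transpose_map]
    exact h
  · rw [star4_map, h2]
    ext i j
    simp

end Cfsg.Agent.Lib.Helper59.PG63
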